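import Mathlib.AlgebraicGeometry.Limits
import Mathlib.AlgebraicGeometry.Morphisms.QuasiSeparated
import Mathlib.AlgebraicGeometry.Stalk
import Mathlib.AlgebraicGeometry.Properties

/-! Generic points of irreducible components in quasi-separated schemes: they avoid the closure of
quasi-compact opens not containing them, and finitely many of them lie in affine opens. -/

universe u

open CategoryTheory AlgebraicGeometry TopologicalSpace

namespace Groth.Agent.Pts57

variable {X : Scheme.{u}}

lemma eq_of_specializes_generic {η y : X}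
    (hη : closure ({η} : Set X) ∈ irreducibleComponents (X : Type u)) (h : y ⤳ η) : y = η := by
  have h1 : closure ({η} : Set X) ⊆ closure ({y} : Set X) :=
    closure_minimal (Set.singleton_subset_iff.2 h.mem_closure) isClosed_closure
  have h2 : closure ({y} : Set X) ⊆ closure ({η} : Set X) := hη.2 isIrreducible_singleton.closure h1
  exact h.antisymm (specializes_iff_closure_subset.2 h2) |>.eq

lemma isNilpotent_germ {η : X} (hη : closure ({η} : Set X) ∈ irreducibleComponents (X : Type u))
    (a : X.presheaf.stalk η) (ha : ¬ IsUnit a) : IsNilpotent a := by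
  have hsub : ∀ p q : PrimeSpectrum (X.presheaf.stalk η), p = q := fun p q => by
    have h : ∀ r : Spec (X.presheaf.stalk η), X.fromSpecStalk η r = η := fun r => by
      have : X.fromSpecStalk η r ∈ Set.range (X.fromSpecStalk η) := ⟨r, rfl⟩
      rw [Scheme.range_fromSpecStalk] at this
      exact eq_of_specializes_generic hη this
    exact (X.fromSpecStalk η).isEmbedding.injective ((h p).trans (h q).symm)
  rw [← mem_nilradical, nilradical_eq_sInf, Submodule.mem_sInf]
  intro J hJ
  have := congrArg PrimeSpectrum.asIdeal (hsub ⟨J, hJ⟩ (IsLocalRing.closedPoint _))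
  change J = IsLocalRing.maximalIdeal _ at this
  rw [this]
  exact ha

/-- A generic point of a component outside a quasi-compact open has a nbhd disjoint from it. -/
lemma exists_nhd_disjoint [QuasiSeparatedSpace X] {η : X}
    (hη : closure ({η} : Set X) ∈ irreducibleComponents (X : Type u))
    {W : X.Opens} (hW : IsCompact (W : Set X)) (hWη : η ∉ W) :
    ∃ N : X.Opens, η ∈ N ∧ Disjoint N W := by
  obtain ⟨_, ⟨U, hU, rfl⟩, hηU, -⟩ :=
    X.isBasis_affineOpens.exists_subset_of_mem_open (Set.mem_univ η) isOpen_univ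
  replace hU : IsAffineOpen U := hU
  have hc : IsCompact ((W : Set X) ∩ U) :=
    QuasiSeparatedSpace.inter_isCompact _ _ W.2 hW U.2 hU.isCompact
  have hb : ∀ y : ((W : Set X) ∩ U : Set X), ∃ f : Γ(X, U), X.basicOpen f ≤ W ∧ (y : X) ∈ X.basicOpen f := by
    rintro ⟨y, hyW, hyU⟩
    exact hU.exists_basicOpen_le ⟨y, hyW⟩ hyU
  choose f hf hfy using hb
  obtain ⟨t, ht⟩ := hc.elim_finite_subcover (fun y => (X.basicOpen (f y) : Set X))
    (fun y => (X.basicOpen (f y)).2) (fun y hy => Set.mem_iUnion.2 ⟨⟨y, hy⟩, hfy _⟩)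
  have hN : ∀ y, ∃ N : X.Opens, η ∈ N ∧ ∀ z ∈ N, z ∉ X.basicOpen (f y) := by
    intro y
    have hnu : ¬ IsUnit (X.presheaf.germ U η hηU (f y)) := fun h =>
      hWη (hf y ((X.mem_basicOpen (f y) η hηU).2 h))
    obtain ⟨n, hn⟩ := isNilpotent_germ hη _ hnu
    rw [← map_pow] at hn
    obtain ⟨N, hηN, i₁, i₂, e⟩ := X.presheaf.germ_eq η hηU hηU _ 0 (hn.trans (map_zero _).symm)
    refine ⟨N, hηN, fun z hzN hz => ?_⟩
    rw [map_zero] at e
    rcases Nat.eq_zero_or_pos n with rfl | hn0
    · have : z ∈ X.basicOpen ((X.presheaf.map i₁.op) ((f y) ^ 0)) := by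
        rw [Scheme.basicOpen_res, pow_zero, Scheme.basicOpen_of_isUnit _ isUnit_one]
        exact ⟨hzN, i₁.le hzN⟩
      rw [e, Scheme.basicOpen_zero] at this
      exact this
    · have : z ∈ X.basicOpen ((X.presheaf.map i₁.op) ((f y) ^ n)) := by
        rw [Scheme.basicOpen_res]
        exact ⟨hzN, ((@Scheme.basicOpen_pow X U (f y) n hn0).symm ▸ hz :)⟩
      rw [e, Scheme.basicOpen_zero] at this
      exact this
  choose N hηN hN using hN
  refine ⟨U ⊓ ⟨_, isOpen_biInter_finset (s := t) fun y _ => (N y).2⟩, ⟨hηU, ?_⟩, ?_⟩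
  · exact Set.mem_iInter₂.2 fun y _ => hηN y
  · rw [← TopologicalSpace.Opens.coe_disjoint, Set.disjoint_left]
    rintro z ⟨hzU, hzN⟩ hzW
    obtain ⟨y, hy, hz⟩ := Set.mem_iUnion₂.1 (ht ⟨hzW, hzU⟩)
    exact hN y z (Set.mem_iInter₂.1 hzN y hy) hz

lemma exists_affine_disjoint [QuasiSeparatedSpace X] {η : X}
    (hη : closure ({η} : Set X) ∈ irreducibleComponents (X : Type u))
    {W : X.Opens} (hW : IsCompact (W : Set X)) (hWη : η ∉ W) (O : X.Opens) (hO : η ∈ O) :
    ∃ U : X.Opens, IsAffineOpen U ∧ η ∈ U ∧ U ≤ O ∧ Disjoint U W := by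
  obtain ⟨N, hN, hd⟩ := exists_nhd_disjoint hη hW hWη
  obtain ⟨_, ⟨U, hU, rfl⟩, hηU, hs⟩ :=
    X.isBasis_affineOpens.exists_subset_of_mem_open (show η ∈ ((O ⊓ N : X.Opens) : Set X) from ⟨hO, hN⟩) (O ⊓ N).2
  have hs' : U ≤ O ⊓ N := hs
  exact ⟨U, hU, hηU, hs'.trans inf_le_left, hd.mono_left (hs'.trans inf_le_right)⟩

/-- Pairwise disjoint affine nbhds of distinct generic points, all avoiding a given quasi-compact
open not containing them. -/
lemma exists_family [QuasiSeparatedSpace X] : ∀ {n : ℕ} (η : Fin n → X),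
    (∀ i, closure ({η i} : Set X) ∈ irreducibleComponents (X : Type u)) → Function.Injective η →
    ∀ W : X.Opens, IsCompact (W : Set X) → (∀ i, η i ∉ W) →
    ∃ U : Fin n → X.Opens, (∀ i, IsAffineOpen (U i) ∧ η i ∈ U i ∧ Disjoint (U i) W) ∧
      Pairwise (fun i j => Disjoint (U i) (U j)) := by
  intro n
  induction n with
  | zero => exact fun η _ _ W _ _ => ⟨fun i => i.elim0, fun i => i.elim0, fun i => i.elim0⟩
  | succ n ih =>
    intro η hη hinj W hW hηW
    let O : X.Opens := ⟨(⋃ i : Fin n, closure ({η i.succ} : Set X))ᶜ,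
      (isClosed_iUnion_of_finite fun _ => isClosed_closure).isOpen_compl⟩
    have h0 : η 0 ∈ O := by
      intro h
      obtain ⟨i, hi⟩ := Set.mem_iUnion.1 h
      exact Fin.succ_ne_zero i
        (hinj (eq_of_specializes_generic (hη 0) (specializes_iff_mem_closure.2 hi)))
    obtain ⟨U₀, hU₀, hη₀, hU₀O, hU₀W⟩ := exists_affine_disjoint (hη 0) hW (hηW 0) O h0
    have hsucc : ∀ i : Fin n, η i.succ ∉ W ⊔ U₀ := fun i h => by
      rcases h with h | h
      · exact hηW _ h
      · exact hU₀O h (Set.mem_iUnion.2 ⟨i, subset_closure rfl⟩)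
    obtain ⟨U, hU, hUd⟩ := ih (η ∘ Fin.succ) (fun i => hη _) (hinj.comp (Fin.succ_injective _)) (W ⊔ U₀)
      (by rw [TopologicalSpace.Opens.coe_sup]; exact hW.union hU₀.isCompact) hsucc
    refine ⟨Fin.cons U₀ U, ?_, ?_⟩
    · intro i
      induction i using Fin.cases with
      | zero => exact ⟨hU₀, hη₀, hU₀W⟩
      | succ i => exact ⟨(hU i).1, (hU i).2.1, (hU i).2.2.mono_right le_sup_left⟩
    · intro i j hij
      induction i using Fin.cases with
      | zero => induction j using Fin.cases with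
        | zero => exact absurd rfl hij
        | succ j => exact ((hU j).2.2.mono_right le_sup_right).symm
      | succ i => induction j using Fin.cases with
        | zero => exact (hU i).2.2.mono_right le_sup_right
        | succ j => exact hUd (fun h => hij (congrArg Fin.succ h))

/-- Finitely many generic points of components and any affine open lie in a common affine open. -/
lemma exists_affine_insert [QuasiSeparatedSpace X] {W : X.Opens} (hW : IsAffineOpen W) (E : Finset X)
    (hE : ∀ η ∈ E, closure ({η} : Set X) ∈ irreducibleComponents (X : Type u)) :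
    ∃ U : X.Opens, IsAffineOpen U ∧ W ≤ U ∧ (E : Set X) ⊆ U := by
  classical
  let E' := E.filter (· ∉ W)
  let η : Fin E'.card → X := fun i => (E'.equivFin.symm i : X)
  have hmem : ∀ i, η i ∈ E' := fun i => (E'.equivFin.symm i).2
  obtain ⟨U, hU, hUd⟩ := exists_family η (fun i => hE _ (Finset.mem_filter.1 (hmem i)).1)
    (Subtype.val_injective.comp E'.equivFin.symm.injective) W hW.isCompact
    (fun i => (Finset.mem_filter.1 (hmem i)).2)
  refine ⟨W ⊔ ⨆ i, U i, hW.sup_of_disjoint (IsAffineOpen.iSup_of_disjoint (fun i => (hU i).1) hUd) ?_,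
    le_sup_left, fun x hx => ?_⟩
  · rw [disjoint_iSup_iff]
    exact fun i => (hU i).2.2.symm
  · by_cases hxW : x ∈ W
    · exact Or.inl hxW
    · refine Or.inr (TopologicalSpace.Opens.mem_iSup.2 ⟨E'.equivFin ⟨x, Finset.mem_filter.2 ⟨hx, hxW⟩⟩, ?_⟩)
      convert (hU _).2.1
      simp [η]

end Groth.Agent.Pts57
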